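import Cfsg.Agent.H983.ElPar.Base
import Cfsg.Agent.H210.Loc.TI
import Cfsg.Agent.H394.SqTI
import Cfsg.Agent.H394.SqPsl2
import Cfsg.Agent.S1163

/-!
# `PSL₂(q)`, `Sz(q)`, `²G₂(q)` (helper983)
-/

set_option autoImplicit false
set_option linter.unusedSectionVars false

namespace Cfsg.Agent.H983.ElPar

open Cfsg
open Cfsg.Agent.H396 (Der der_of_prime)
open Cfsg.Agent.H210.Loc (TI)

/-- groups with trivial intersections of Sylow `p`-subgroups, of order `Q (Q + 1) h` -/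
theorem np_of_ti {T : Type*} [Group T] [Finite T] [IsSimpleGroup T] {p : ℕ} [hp : Fact p.Prime] (hTI : TI p T)
    {Q h r k : ℕ} (hQ : Q = p ^ k) (hk : k ≠ 0) (hord : Nat.card T = Q * ((Q + 1) * h)) (hph : ¬ p ∣ h)
    (hlt : h < Q) (hr : r.Prime) (hrQ : r ∣ Q + 1) (hrh : ¬ r ∣ h) : NP p T := by
  have hpQ : p ∣ Q := hQ ▸ dvd_pow_self p hk
  have hpQ1 : ¬ p ∣ Q + 1 := fun h1 => hp.out.one_lt.ne' (Nat.dvd_one.1 ((Nat.dvd_add_right hpQ).1 h1))
  have hpm : ¬ p ∣ (Q + 1) * h := fun h1 => (hp.out.dvd_mul.1 h1).elim hpQ1 hph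
  have hrT : r ∣ Nat.card T := by
    rw [hord]
    exact (hrQ.mul_right h).mul_left Q
  -- the order of a Sylow subgroup
  have hcardP : ∀ P : Sylow p T, Nat.card P = Q := by
    intro P
    have h1 : Nat.card P * (P : Subgroup T).index = Q * ((Q + 1) * h) := by
      rw [← hord]; exact (P : Subgroup T).card_mul_index
    obtain ⟨a, ha⟩ := IsPGroup.iff_card.1 P.isPGroup'
    apply Nat.dvd_antisymm
    · have h2 : Nat.Coprime (Nat.card P) ((Q + 1) * h) := by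
        rw [ha]
        exact ((Nat.Prime.coprime_iff_not_dvd hp.out).2 hpm).pow_left a
      exact h2.dvd_of_dvd_mul_right ⟨_, h1.symm⟩
    · have h2 : Nat.Coprime Q (P : Subgroup T).index := by
        rw [hQ]
        exact ((Nat.Prime.coprime_iff_not_dvd hp.out).2 P.not_dvd_index).pow_left k
      exact h2.dvd_of_dvd_mul_right ⟨_, h1⟩
  intro V hV hV1
  obtain ⟨S, hS⟩ := hV.exists_le_sylow
  refine Der.mono (der_of_prime hr hrT ?_) (hTI.normalizer_le S hV1 hS)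
  have h1 := H394.SqTI.card_sylow_eq (h := h) hTI S (by rw [hcardP S]; exact hpQ) (by rw [hcardP S]; exact hord)
    (by rw [hcardP S]; exact hlt)
  rw [S.card_eq_index_normalizer, hcardP S, add_comm] at h1
  change (Subgroup.normalizer ((S : Subgroup T) : Set T)).index = Q + 1 at h1
  have h2 := (Subgroup.normalizer ((S : Subgroup T) : Set T)).card_mul_index
  rw [h1, hord] at h2
  have h3 : Nat.card (Subgroup.normalizer ((S : Subgroup T) : Set T)) = Q * h := by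
    apply Nat.eq_of_mul_eq_mul_right (show 0 < Q + 1 by omega)
    rw [h2]; ring
  rw [h3]
  intro h4
  rcases hr.dvd_mul.1 h4 with h5 | h5
  · exact hr.one_lt.ne' (Nat.dvd_one.1 ((Nat.dvd_add_right h5).1 hrQ))
  · exact hrh h5

theorem np_psl2 {F : Type} [Field F] [Fintype F] {p : ℕ} [CharP F p] (h4 : 4 ≤ Fintype.card F)
    [IsSimpleGroup (Matrix.ProjectiveSpecialLinearGroup (Fin 2) F)] :
    NP p (Matrix.ProjectiveSpecialLinearGroup (Fin 2) F) := by
  have hp : Fact p.Prime := ⟨CharP.char_is_prime F p⟩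
  obtain ⟨N, hpN, hN⟩ := FiniteField.card F p
  have hcard := H394.SqPsl2.card_psl (F := F)
  have hfin : Finite (Matrix.ProjectiveSpecialLinearGroup (Fin 2) F) := Quotient.finite _
  obtain ⟨q, hq⟩ : ∃ q, Fintype.card F = q := ⟨_, rfl⟩
  rw [hq] at hcard h4 hN
  obtain ⟨d, hd⟩ : ∃ d, Nat.gcd 2 (q - 1) = d := ⟨_, rfl⟩
  rw [hd] at hcard
  have hd2 : d ∣ 2 := hd ▸ Nat.gcd_dvd_left _ _
  have hdq : d ∣ q - 1 := hd ▸ Nat.gcd_dvd_right _ _
  obtain ⟨h, hh⟩ := hdq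
  have hdpos : 0 < d := Nat.pos_of_dvd_of_pos hd2 (by norm_num)
  have hfac := H394.SqPsl2.sub_mul_self (q := q) (by omega)
  have hord : Nat.card (Matrix.ProjectiveSpecialLinearGroup (Fin 2) F) = q * ((q + 1) * h) := by
    apply Nat.eq_of_mul_eq_mul_left hdpos
    rw [hcard, hfac, hh]; ring
  have hpq : p ∣ q := by rw [hN]; exact dvd_pow_self p N.2.ne'
  have hhq : h ∣ q - 1 := ⟨d, by rw [hh, mul_comm]⟩
  have hph : ¬ p ∣ h := by
    intro h3
    have h5 : p ∣ q - (q - 1) := Nat.dvd_sub hpq (h3.trans hhq)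
    rw [Nat.sub_sub_self (by omega)] at h5
    exact hp.out.one_lt.ne' (Nat.dvd_one.1 h5)
  have hlt : h < q := by
    have := Nat.le_of_dvd (by omega) hhq
    omega
  obtain ⟨r, hr, hrQ, hrh⟩ : ∃ r : ℕ, r.Prime ∧ r ∣ q + 1 ∧ ¬ r ∣ h := by
    by_cases h6 : ∃ r, r.Prime ∧ r ∣ q + 1 ∧ r ≠ 2
    · obtain ⟨r, hr, hrd, hr2⟩ := h6
      refine ⟨r, hr, hrd, fun h8 => ?_⟩
      have h9 : r ∣ (q + 1) - (q - 1) := Nat.dvd_sub hrd (h8.trans hhq)
      have h10 : (q + 1) - (q - 1) = 2 := by omega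
      rw [h10] at h9
      exact hr2 ((Nat.prime_dvd_prime_iff_eq hr Nat.prime_two).1 h9)
    · push Not at h6
      have h7 : 4 ∣ q + 1 := by
        by_contra h8
        obtain ⟨r, hr, hrd, hr2⟩ := H394.SqPsl2.exists_odd_prime (N := q + 1) (by omega) h8
        exact hr2 (h6 r hr hrd)
      have hd' : d = 2 := by
        rw [← hd]
        apply Nat.gcd_eq_left
        omega
      refine ⟨2, Nat.prime_two, by omega, ?_⟩
      rw [hd'] at hh
      omega
  exact np_of_ti (H210.Loc.ti_psl2 (F := F)) hN N.2.ne' hord hph hlt hr hrQ hrh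

/-- **The Ree groups.** -/
theorem np_ree {T : Type*} [Group T] [Finite T] [IsSimpleGroup T] (h : Cfsg.Lie.IsoRee T) : NP 3 T := by
  have hTI := H210.Loc.ti_ree h
  obtain ⟨K, iK, iK', m, hm, hK, ⟨e⟩⟩ := h
  obtain ⟨U, h, n, D⟩ := Cfsg.Agent.ChevalleyStructure.Ree.Data.exists_data hK
  have : Fact (Nat.Prime 3) := ⟨Nat.prime_three⟩
  obtain ⟨q, hq⟩ : ∃ q, q = 3 ^ (2 * m + 1) := ⟨_, rfl⟩
  have hcard := Cfsg.Agent.LieRecognition.ReeSylowThree.card_eq D
  rw [hK, ← hq] at hcard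
  have hq27 : 27 ≤ q := by
    rw [hq]
    calc 27 = 3 ^ 3 := by norm_num
      _ ≤ 3 ^ (2 * m + 1) := Nat.pow_le_pow_right (by norm_num) (by omega)
  have h3q : 3 ∣ q := hq ▸ dvd_pow_self 3 (by omega)
  obtain ⟨r, hr, hrd⟩ := Nat.exists_prime_and_dvd (n := q ^ 2 - q + 1) (by
    have : q * 2 ≤ q ^ 2 := by rw [pow_two]; exact Nat.mul_le_mul_left _ (by omega)
    omega)
  have hqq : q ≤ q ^ 2 := Nat.le_self_pow (by norm_num) q
  have hcube : q ^ 3 + 1 = (q + 1) * (q ^ 2 - q + 1) := by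
    zify [hqq]; ring
  refine np_of_ti hTI (Q := q ^ 3) (h := q - 1) (k := (2 * m + 1) * 3) (r := r) (by rw [hq, ← pow_mul]) (by omega)
    ?_ ?_ ?_ hr ?_ ?_
  · rw [Nat.card_congr e.toEquiv, hcard]; ring
  · intro h1
    have h2 : 3 ∣ q - (q - 1) := Nat.dvd_sub h3q h1
    rw [Nat.sub_sub_self (by omega)] at h2
    norm_num at h2
  · have : q ≤ q ^ 3 := Nat.le_self_pow (by norm_num) q
    omega
  · rw [hcube]; exact hrd.mul_left _
  · intro h1
    have h2 : r ∣ q ^ 2 - q := by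
      have : q ^ 2 - q = q * (q - 1) := by rw [Nat.mul_sub, mul_one, pow_two]
      rw [this]; exact h1.mul_left _
    exact hr.one_lt.ne' (Nat.dvd_one.1 ((Nat.dvd_add_right h2).1 hrd))

/-- **The Suzuki groups.** -/
theorem np_sz {T : Type*} [Group T] [Finite T] [IsSimpleGroup T] (h : Cfsg.Lie.IsoSuzuki T) : NP 2 T := by
  have hTI := H210.Loc.ti_suzuki h
  obtain ⟨F, iF, iF', m, hm, hF, ⟨e⟩⟩ := h
  have : Fact (Nat.Prime 2) := ⟨Nat.prime_two⟩
  obtain ⟨hcard, -⟩ := Cfsg.Agent.S1163.result hm hF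
  obtain ⟨q, hq⟩ : ∃ q, q = 2 ^ (2 * m + 1) := ⟨_, rfl⟩
  rw [← hq] at hcard
  have hq8 : 8 ≤ q := by
    rw [hq]
    calc 8 = 2 ^ 3 := by norm_num
      _ ≤ 2 ^ (2 * m + 1) := Nat.pow_le_pow_right (by norm_num) (by omega)
  have h2q : 2 ∣ q := hq ▸ dvd_pow_self 2 (by omega)
  obtain ⟨r, hr, hrd⟩ := Nat.exists_prime_and_dvd (n := q ^ 2 + 1) (by
    have : 0 < q ^ 2 := by positivity
    omega)
  refine np_of_ti hTI (Q := q ^ 2) (h := q - 1) (k := (2 * m + 1) * 2) (r := r) (by rw [hq, ← pow_mul]) (by omega)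
    ?_ ?_ ?_ hr hrd ?_
  · rw [Nat.card_congr e.toEquiv, hcard]; ring
  · intro h1
    have h2 : 2 ∣ q - (q - 1) := Nat.dvd_sub h2q h1
    rw [Nat.sub_sub_self (by omega)] at h2
    norm_num at h2
  · have : q ≤ q ^ 2 := Nat.le_self_pow (by norm_num) q
    omega
  · intro h1
    -- `q² + 1 = (q - 1) (q + 1) + 2`
    have h2 : r ∣ (q - 1) * (q + 1) := h1.mul_right _
    have h3 : q ^ 2 + 1 = (q - 1) * (q + 1) + 2 := by
      obtain ⟨t, rfl⟩ : ∃ t, q = t + 1 := ⟨q - 1, by omega⟩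
      rw [Nat.add_sub_cancel]; ring
    rw [h3] at hrd
    have h4 : r ∣ 2 := (Nat.dvd_add_right h2).1 hrd
    have h5 : r = 2 := (Nat.prime_dvd_prime_iff_eq hr Nat.prime_two).1 h4
    subst h5
    have h6 : 2 ∣ q - (q - 1) := Nat.dvd_sub h2q h1
    rw [Nat.sub_sub_self (by omega)] at h6
    norm_num at h6

end Cfsg.Agent.H983.ElPar
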