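import Cfsg.Agent.H983.ElPar.Lin
import Cfsg.Agent.H983.ElPar.Small
import Cfsg.Agent.H983.ElPar.OPlus
import Cfsg.Agent.H983.ElPar.PlusEight
import Cfsg.Agent.H983.ElPar.Exc
import Cfsg.Agent.H983.ElPar.Rank1
import Cfsg.Agent.H983.ElPar.TwF4

/-!
# `p`-local subgroups of the simple groups of Lie type in characteristic `p` (helper983, task 648)

* `np_of_lieType` : the normaliser of a nontrivial `p`-subgroup misses an `Aut`-class of elements of prime order;
* `der_of_op` : the same for every subgroup `M` with `O_p(M) ≠ 1`.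
-/

set_option autoImplicit false

namespace Cfsg.Agent.H983.ElPar

open Cfsg Cfsg.Agent.H396
open Cfsg.Agent.KFacts.RgdLieCharP (hasFilt_of_lie)

private theorem ncomm {T S : Type*} [Group T] [Group S] (e : T ≃* S) (h : ∃ a b : T, a * b ≠ b * a) :
    ∃ a b : S, a * b ≠ b * a := by
  obtain ⟨a, b, hab⟩ := h
  refine ⟨e a, e b, fun h => hab (e.injective ?_)⟩
  rw [map_mul, map_mul, h]

theorem np_of_lieType {p : ℕ} {T : Type*} [Group T] [Finite T] [IsSimpleGroup T] (hna : ∃ a b : T, a * b ≠ b * a)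
    (h : Cfsg.IsLieTypeChar p T) : NP p T := by
  rcases h with h | h | h | h | h | h | h | h | h | h | h
  · obtain ⟨F, i1, i2, i3, n, hn, h4, ⟨e⟩⟩ := h
    have := e.symm.isSimpleGroup
    refine NP.congr e.symm ?_
    rcases hn.eq_or_lt with rfl | hn3
    · exact np_psl2 (h4 rfl)
    · by_cases h6 : Fintype.card F = 2 ∧ n = 6
      · obtain ⟨hF, rfl⟩ := h6
        have hp : p = 2 := by
          have : CharP F 2 := charP_of_card_eq_prime hF
          exact CharP.eq F i3 this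
        subst hp
        exact np_psl62 hF
      · exact np_psl hn3 h6
  · obtain ⟨F, i1, i2, i3, m, hm, h4, ⟨e⟩⟩ := h
    have := e.symm.isSimpleGroup
    have hfin : Finite (PSp m F) := Finite.of_equiv _ e.toEquiv
    refine NP.congr e.symm ?_
    by_cases h6 : Fintype.card F = 2 ∧ m = 3
    · obtain ⟨hF, rfl⟩ := h6
      have hp : p = 2 := by
        have : CharP F 2 := charP_of_card_eq_prime hF
        exact CharP.eq F i3 this
      subst hp
      have : Fact (Nat.Prime 2) := ⟨Nat.prime_two⟩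
      exact np_of_filt (hasFilt_of_lie (Or.inr (Or.inl ⟨F, i1, i2, i3, 3, hm, h4, ⟨MulEquiv.refl _⟩⟩)))
        (ncomm e hna) (dq_psp62 hF)
    · exact np_psp hm h6
  · obtain ⟨F, i1, i2, i3, n, q, hF, hn, h3, ⟨e⟩⟩ := h
    have := e.symm.isSimpleGroup
    have hfin : Finite (PSU n F q) := Finite.of_equiv _ e.toEquiv
    refine NP.congr e.symm ?_
    by_cases h6 : q = 2 ∧ n = 4
    · obtain ⟨rfl, rfl⟩ := h6
      have hp : p = 2 := by
        have h5 : p ∣ 2 ^ 2 := by
          rw [← hF]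
          exact (CharP.cast_eq_zero_iff F p _).1 (by rw [← Nat.card_eq_fintype_card]; simp)
        exact (Nat.prime_dvd_prime_iff_eq (CharP.char_is_prime F p) Nat.prime_two).1
          ((CharP.char_is_prime F p).dvd_of_dvd_pow h5)
      subst hp
      have : Fact (Nat.Prime 2) := ⟨Nat.prime_two⟩
      exact np_of_filt (hasFilt_of_lie (Or.inr (Or.inr (Or.inl ⟨F, i1, i2, i3, 4, 2, hF, hn, h3, ⟨MulEquiv.refl _⟩⟩))))
        (ncomm e hna) (dq_psu42 hF)
    · exact np_psu hF hn h3 h6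
  · obtain ⟨F, i1, i2, i3, m, hm, ho, ⟨e⟩⟩ := h
    exact NP.congr e.symm (np_po_odd hm ho)
  · obtain ⟨F, i1, i2, i3, m, hm, ⟨e⟩⟩ := h
    have := e.symm.isSimpleGroup
    refine NP.congr e.symm ?_
    by_cases h6 : Fintype.card F = 2 ∧ m = 4
    · obtain ⟨hF, rfl⟩ := h6
      have hp : p = 2 := by
        have : CharP F 2 := charP_of_card_eq_prime hF
        exact CharP.eq F i3 this
      subst hp
      exact np_po8 hF (ncomm e hna)
    · exact np_po_plus hm h6 (ncomm e hna)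
  · obtain ⟨F, i1, i2, i3, m, a, b, hm, hab, ⟨e⟩⟩ := h
    exact NP.congr e.symm (np_po_minus hm hab)
  · obtain ⟨F, i1, i2, i3, h⟩ := h
    rcases h with ⟨-, ⟨e⟩⟩ | ⟨⟨e⟩⟩ | ⟨⟨e⟩⟩ | ⟨⟨e⟩⟩ | ⟨⟨e⟩⟩
    · exact NP.congr e.symm np_G2
    · exact NP.congr e.symm np_F4
    · exact NP.congr e.symm np_E6
    · exact NP.congr e.symm np_E7
    · exact NP.congr e.symm np_E8
  · obtain ⟨K, i1, i2, i3, q, hq, h⟩ := h
    rcases h with ⟨hK, ⟨e⟩⟩ | ⟨hK, ⟨e⟩⟩
    · exact NP.congr e.symm (np_twE6 hq hK)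
    · exact NP.congr e.symm (np_twD4 hq hK)
  · obtain ⟨rfl, h⟩ := h
    exact np_sz h
  · obtain ⟨rfl, h⟩ := h
    exact np_2F4 h
  · obtain ⟨rfl, h⟩ := h
    exact np_ree h

/-- **EL-PAR**: a subgroup `M` of a simple group of Lie type in characteristic `p` with `O_p(M) ≠ 1` misses an
`Aut`-class of elements of prime order. -/
theorem der_of_op {p : ℕ} {T : Type*} [Group T] [Finite T] [IsSimpleGroup T] (hna : ∃ a b : T, a * b ≠ b * a)
    (h : Cfsg.IsLieTypeChar p T) {M : Subgroup T} (hO : Cfsg.pCore p ↥M ≠ ⊥) : Der T M :=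
  (np_of_lieType hna h).der_of_pCore hO

/-- the same for subgroups of normalisers of nontrivial `p`-subgroups -/
theorem der_of_le_normalizer {p : ℕ} {T : Type*} [Group T] [Finite T] [IsSimpleGroup T]
    (hna : ∃ a b : T, a * b ≠ b * a) (h : Cfsg.IsLieTypeChar p T) {M V : Subgroup T} (hV : IsPGroup p V)
    (hV1 : V ≠ ⊥) (hMV : M ≤ Subgroup.normalizer (V : Set T)) : Der T M :=
  Der.mono (np_of_lieType hna h V hV hV1) hMV

end Cfsg.Agent.H983.ElPar
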