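import Cfsg.Agent.LieClassical.OrthTrans
import Cfsg.Agent.LieClassical.OrthForms
import Cfsg.Agent.LieClassical.OrthFinite

/-!
# An element of order 9 in `Ω₈⁺(2)` (helper983)
-/

set_option autoImplicit false
set_option linter.unusedSectionVars false

namespace Cfsg.Agent.H983.ElPar.Nine

open QuadraticMap Matrix Cfsg.Agent.LieClassical Cfsg.Agent.LieClassical.OrthCore Cfsg.Agent.LieClassical.OrthTrans
  Cfsg.Agent.LieClassical.OrthForms Cfsg.Agent.LieClassical.OrthFinite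

section general

variable {F V : Type*} [Field F] [AddCommGroup V] [Module F V] [FiniteDimensional F V] {Q : QuadraticForm F V}

/-- the isometries are in `E` or in the coset of a reflection -/
theorem mem_or (hG : Good Q) (h1F : ∀ a b : F, a ≠ 0 → b ≠ 0 → a = b) {v : V} (hv : Q v ≠ 0) {g : V ≃ₗ[F] V} (hg : g ∈ O Q) :
    g ∈ E Q ∨ refl Q v hv * g ∈ E Q := by
  have hr : refl Q v hv ∈ O Q := refl_mem_O hv
  have hrr := refl_mul_self hv
  have hE : ∀ x y : V ≃ₗ[F] V, x ∈ E Q → y ∈ E Q → x * y ∈ E Q := fun x y hx hy => mul_mem hx hy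
  rw [O_eq_closure hG.nondeg] at hg
  refine Subgroup.closure_induction (p := fun g _ => g ∈ E Q ∨ refl Q v hv * g ∈ E Q) ?_ ?_ ?_ ?_ hg
  · rintro x (⟨w, hw, rfl⟩ | hx)
    · right
      exact hG.refl_mul_refl_mem hw hv (h1F _ _ hw hv)
    · left
      exact Subgroup.subset_closure hx
  · left; exact one_mem _
  · rintro a b - - (ha | ha) (hb | hb)
    · left; exact mul_mem ha hb
    · right
      have h1 := conj_mem_E hr ha
      have h2 : refl Q v hv * (a * b) = refl Q v hv * a * (refl Q v hv)⁻¹ * (refl Q v hv * b) := by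
        group
      rw [h2]
      exact mul_mem h1 hb
    · right
      rw [← mul_assoc]
      exact mul_mem ha hb
    · left
      have h1 := conj_mem_E hr ha
      have h2 : a * b = refl Q v hv * (refl Q v hv * a) * (refl Q v hv)⁻¹ * (refl Q v hv * b) := by
        calc a * b = (refl Q v hv * refl Q v hv) * a * b := by rw [hrr, one_mul]
          _ = _ := by group
      rw [h2]
      exact mul_mem h1 hb
  · rintro a - (ha | ha)
    · left; exact inv_mem ha
    · right
      have h1 := conj_mem_E hr (inv_mem ha)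
      have h2 : refl Q v hv * a⁻¹ = refl Q v hv * (refl Q v hv * a)⁻¹ * (refl Q v hv)⁻¹ := by
        rw [_root_.mul_inv_rev, refl_inv, mul_assoc, mul_assoc, hrr, mul_one]
      rw [h2]
      exact h1

theorem mem_E_of_odd (hG : Good Q) (h1F : ∀ a b : F, a ≠ 0 → b ≠ 0 → a = b) {v : V} (hv : Q v ≠ 0) {g : V ≃ₗ[F] V} (hg : g ∈ O Q) {n : ℕ}
    (hn : g ^ (2 * n + 1) = 1) : g ∈ E Q := by
  have hr : refl Q v hv ∈ O Q := refl_mem_O hv
  have hrr := refl_mul_self hv
  rcases mem_or hG h1F hv hg with h | h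
  · exact h
  · have h1 := conj_mem_E hr h
    have h2 : g * g = refl Q v hv * (refl Q v hv * g) * (refl Q v hv)⁻¹ * (refl Q v hv * g) := by
      calc g * g = (refl Q v hv * refl Q v hv) * g * g := by rw [hrr, one_mul]
        _ = _ := by group
    have h3 : g * g ∈ E Q := by
      rw [h2]
      exact mul_mem h1 h
    have h4 : g = (g * g) ^ (n + 1) := by
      rw [← pow_two, ← pow_mul, show 2 * (n + 1) = 2 * n + 1 + 1 by ring, pow_succ, hn, one_mul]
    rw [h4]
    exact pow_mem h3 _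

end general

/-- the matrix -/
def A0 : Matrix (Fin 4 ⊕ Fin 4) (Fin 4 ⊕ Fin 4) (ZMod 2) :=
  Matrix.fromBlocks
    !![1, 1, 0, 1; 0, 1, 1, 1; 0, 1, 0, 1; 1, 0, 1, 1]
    !![0, 1, 1, 1; 1, 1, 0, 1; 0, 1, 0, 1; 1, 1, 1, 0]
    !![1, 1, 1, 0; 1, 0, 1, 1; 1, 1, 0, 1; 1, 0, 1, 0]
    !![0, 1, 1, 0; 1, 0, 0, 1; 1, 0, 0, 1; 1, 1, 1, 1]

theorem A0_pow : A0 * A0 * A0 * (A0 * A0 * A0) * (A0 * A0 * A0) = 1 := by decide +kernel

theorem A0_three : A0 * A0 * A0 ≠ 1 := by decide +kernel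

theorem A0_iso : ∀ v : Fin 4 ⊕ Fin 4 → ZMod 2, quadFormPlus 4 (ZMod 2) (A0 *ᵥ v) = quadFormPlus 4 (ZMod 2) v := by
  decide +kernel

section field

variable {F : Type} [Field F] [Fintype F]

theorem exists_nine (hF : Fintype.card F = 2) (hG : Good (plusForm 4 F)) :
    ∃ y : ↥(E (plusForm 4 F)), orderOf y = 9 := by
  classical
  have hch : CharP F 2 := by
    have : Fact (Nat.Prime 2) := ⟨Nat.prime_two⟩
    exact charP_of_card_eq_prime hF
  set φ : ZMod 2 →+* F := ZMod.castHom (dvd_refl 2) F with hφ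
  have hinj : Function.Injective φ := φ.injective
  have hbij : Function.Bijective φ := by
    rw [Fintype.bijective_iff_injective_and_card]
    exact ⟨hinj, by rw [hF, ZMod.card]⟩
  set A : Matrix (Fin 4 ⊕ Fin 4) (Fin 4 ⊕ Fin 4) F := A0.map φ with hA
  have hmap : ∀ B C : Matrix (Fin 4 ⊕ Fin 4) (Fin 4 ⊕ Fin 4) (ZMod 2), (B * C).map φ = B.map φ * C.map φ :=
    fun B C => Matrix.map_mul
  have hone : (1 : Matrix (Fin 4 ⊕ Fin 4) (Fin 4 ⊕ Fin 4) (ZMod 2)).map φ = 1 :=
    Matrix.map_one φ (map_zero φ) (map_one φ)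
  have h9 : A * A * A * (A * A * A) * (A * A * A) = 1 := by
    rw [hA, ← hmap, ← hmap, ← hmap, ← hmap, A0_pow, hone]
  have h3 : A * A * A ≠ 1 := by
    intro h
    apply A0_three
    rw [hA, ← hmap, ← hmap, ← hone] at h
    exact Matrix.map_injective hinj h
  -- the linear map
  have h9' : A * (A * A * (A * A * A) * (A * A * A)) = 1 := by
    rw [← h9]; simp only [mul_assoc]
  have h9'' : (A * A * (A * A * A) * (A * A * A)) * A = 1 := by
    rw [← h9]; simp only [mul_assoc]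
  let g : (Fin 4 ⊕ Fin 4 → F) ≃ₗ[F] (Fin 4 ⊕ Fin 4 → F) := LinearEquiv.ofLinearMap (Matrix.toLin' A)
    (Matrix.toLin' (A * A * (A * A * A) * (A * A * A)))
    (by rw [← Matrix.toLin'_mul, h9', Matrix.toLin'_one])
    (by rw [← Matrix.toLin'_mul, h9'', Matrix.toLin'_one])
  have hg : ∀ v, g v = A *ᵥ v := fun v => Matrix.toLin'_apply A v
  have hQ : ∀ v, plusForm 4 F (g v) = plusForm 4 F v := by
    intro v
    obtain ⟨v0, rfl⟩ : ∃ v0 : Fin 4 ⊕ Fin 4 → ZMod 2, v = φ ∘ v0 := by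
      refine ⟨fun i => (Function.surjInv hbij.2 (v i)), ?_⟩
      funext i
      exact (Function.surjInv_eq hbij.2 (v i)).symm
    rw [hg, coe_plusForm]
    have h1 : A *ᵥ (φ ∘ v0) = φ ∘ (A0 *ᵥ v0) := by
      funext i
      exact (RingHom.map_mulVec φ A0 v0 i).symm
    have h2 : ∀ w : Fin 4 ⊕ Fin 4 → ZMod 2, Cfsg.quadFormPlus 4 F (φ ∘ w) = φ (Cfsg.quadFormPlus 4 (ZMod 2) w) := by
      intro w
      unfold Cfsg.quadFormPlus
      rw [map_sum]
      exact Finset.sum_congr rfl fun i _ => (map_mul φ _ _).symm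
    rw [h1, h2, h2, A0_iso]
  have hgO : g ∈ O (plusForm 4 F) := hQ
  have hpow : ∀ (n : ℕ) (v : Fin 4 ⊕ Fin 4 → F), (g ^ n) v = (A ^ n) *ᵥ v := by
    intro n
    induction n with
    | zero => intro v; rw [pow_zero, pow_zero, one_mulVec]; rfl
    | succ n ih =>
      intro v
      rw [pow_succ, pow_succ, LinearEquiv.mul_apply, hg, ih, mulVec_mulVec]
  have hA9 : A ^ 9 = 1 := by
    rw [← h9]; simp only [pow_succ, pow_zero, one_mul, mul_assoc]
  have hA3 : A ^ 3 ≠ 1 := by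
    intro h
    apply h3
    rw [← h]; simp only [pow_succ, pow_zero, one_mul]
  have hg9 : g ^ 9 = 1 := by
    ext1 v
    rw [hpow, hA9, one_mulVec]; rfl
  have hg3 : g ^ 3 ≠ 1 := by
    intro h
    apply hA3
    refine Matrix.mulVec_injective ?_
    funext v
    rw [← hpow, h, one_mulVec]; rfl
  obtain ⟨v, hv⟩ : ∃ v, plusForm 4 F v ≠ 0 := by
    refine ⟨fun i => Sum.elim (fun j => if j = 0 then 1 else 0) (fun j => if j = 0 then 1 else 0) i, ?_⟩
    rw [coe_plusForm]
    unfold Cfsg.quadFormPlus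
    simp
  have h1F : ∀ a b : F, a ≠ 0 → b ≠ 0 → a = b := by
    have key : ∀ a : F, a ≠ 0 → a = 1 := by
      intro a ha
      have h1 := FiniteField.pow_card_sub_one_eq_one a ha
      rwa [hF, show 2 - 1 = 1 from rfl, pow_one] at h1
    intro a b ha hb
    rw [key a ha, key b hb]
  have hgE : g ∈ E (plusForm 4 F) := mem_E_of_odd hG h1F hv hgO (n := 4) hg9
  refine ⟨⟨g, hgE⟩, ?_⟩
  have := Fact.mk Nat.prime_three
  refine orderOf_eq_prime_pow (p := 3) (n := 1) ?_ ?_
  · intro h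
    apply hg3
    exact congrArg Subtype.val h
  · exact Subtype.ext hg9

end field

end Cfsg.Agent.H983.ElPar.Nine
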