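import Cfsg.Agent.H983.ElPar.Base
import Cfsg.Agent.H686.SqGen

/-!
# Central elements of Sylow subgroups and derangements (helper983)

* `dvd_card_of_sylow` : orbit counting for a subgroup of index prime to `r`;
* `der_of_index_pow` : proper subgroups of prime power index in simple groups;
* `np_of_z` : a uniform element of prime order.
-/

set_option autoImplicit false
set_option linter.unusedSectionVars false

namespace Cfsg.Agent.H983.ElPar

open MulAction
open Cfsg.Agent.H396 (Der der_of_prime)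
open Cfsg.Agent.H686.SqGen (setAct dvd_card_of_orbits)

/-- `P` of index prime to `r`, `Y` a `P`-invariant set all of whose `G`-orbits have length divisible by `r ^ a` -/
theorem dvd_card_of_sylow {G X : Type*} [Group G] [Finite G] [MulAction G X] {P : Subgroup G} {r a : ℕ} (hr : r.Prime)
    (hP : ¬ r ∣ P.index) (Y : Set X) [Finite Y] (hinv : ∀ m ∈ P, ∀ y ∈ Y, m • y ∈ Y)
    (hN : ∀ y ∈ Y, r ^ a ∣ Nat.card (orbit G y)) : r ^ a ∣ Nat.card Y := by
  let : MulAction P Y := setAct P Y hinv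
  refine dvd_card_of_orbits (M := P) fun y => ?_
  have h1 : (stabilizer P y).index = Nat.card (orbit P y) := index_stabilizer P y
  have h2 : (stabilizer G (y : X)).index = Nat.card (orbit G (y : X)) := index_stabilizer G (y : X)
  have h3 : stabilizer P y = (stabilizer G (y : X)).subgroupOf P := by
    ext m
    rw [mem_stabilizer_iff, Subgroup.mem_subgroupOf, mem_stabilizer_iff, Subtype.ext_iff]
    rfl
  have h4 : (stabilizer G (y : X)).index ∣ (stabilizer G (y : X) ⊓ P).index := Subgroup.index_dvd_of_le inf_le_left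
  have h5 : (stabilizer G (y : X) ⊓ P).index = (stabilizer G (y : X)).relIndex P * P.index := by
    rw [← Subgroup.inf_relIndex_right]
    exact (Subgroup.relIndex_mul_index inf_le_right).symm
  have h6 : (stabilizer G (y : X)).relIndex P = Nat.card (orbit P y) := by
    rw [← h1, h3]; rfl
  rw [h2, h5, h6] at h4
  exact (((Nat.Prime.coprime_iff_not_dvd hr).2 hP).pow_left a).dvd_of_dvd_mul_right ((hN y y.2).trans h4)

/-- a subgroup of index prime to `r` is transitive on the cosets of a subgroup of `r`-power index -/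
theorem exists_mul_of_index_pow {G : Type*} [Group G] [Finite G] {P M : Subgroup G} {r k : ℕ} (hr : r.Prime)
    (hP : ¬ r ∣ P.index) (hM : M.index = r ^ k) (g : G) : ∃ x ∈ P, ∃ m ∈ M, g = x * m := by
  have h1 : r ^ k ∣ M.relIndex P := by
    have h2 : M.relIndex P * P.index = (M ⊓ P).index := by
      rw [← Subgroup.inf_relIndex_right]
      exact Subgroup.relIndex_mul_index inf_le_right
    have h3 : M.index ∣ (M ⊓ P).index := Subgroup.index_dvd_of_le inf_le_left
    rw [← h2, hM] at h3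
    exact (((Nat.Prime.coprime_iff_not_dvd hr).2 hP).pow_left k).dvd_of_dvd_mul_right h3
  have h4 : Nat.card (orbit P (QuotientGroup.mk 1 : G ⧸ M)) = M.relIndex P := by
    rw [Nat.card_coe_set_eq, ← index_stabilizer]
    have h5 : stabilizer P (QuotientGroup.mk 1 : G ⧸ M) = M.subgroupOf P := by
      ext m
      rw [mem_stabilizer_iff, Subgroup.mem_subgroupOf]
      show (QuotientGroup.mk ((m : G) * 1) : G ⧸ M) = QuotientGroup.mk 1 ↔ _
      rw [mul_one, eq_comm, QuotientGroup.eq, inv_one, one_mul]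
    rw [h5]; rfl
  have h6 : (orbit P (QuotientGroup.mk 1 : G ⧸ M)) = Set.univ := by
    rw [Set.eq_univ_iff_ncard]
    refine le_antisymm (Set.ncard_le_card _) ?_
    rw [← Nat.card_coe_set_eq, h4]
    have h7 : Nat.card (G ⧸ M) = M.index := rfl
    rw [h7, hM]
    exact Nat.le_of_dvd (Nat.pos_of_ne_zero (Subgroup.index_ne_zero_of_finite (H := M.subgroupOf P))) h1
  have h8 : (QuotientGroup.mk g : G ⧸ M) ∈ orbit P (QuotientGroup.mk 1 : G ⧸ M) := by rw [h6]; trivial
  obtain ⟨x, hx⟩ := h8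
  have h9 : (QuotientGroup.mk ((x : G) * 1) : G ⧸ M) = QuotientGroup.mk g := hx
  rw [mul_one, QuotientGroup.eq] at h9
  exact ⟨x, x.2, _, h9, by group⟩

theorem not_mem_of_index_pow {T : Type*} [Group T] [Finite T] [IsSimpleGroup T] {P M : Subgroup T} (hM : M ≠ ⊤)
    {r k : ℕ} (hr : r.Prime) (hP : ¬ r ∣ P.index) (hidx : M.index = r ^ k) {z : T} (hz : ∀ x ∈ P, x * z = z * x)
    (hz1 : z ≠ 1) : z ∉ M := by
  intro hzM
  have h1 : Subgroup.normalClosure {z} ≤ M := by
    refine (Subgroup.closure_le M).2 ?_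
    rintro y hy
    rw [Group.mem_conjugatesOfSet_iff] at hy
    obtain ⟨w, hw, hwy⟩ := hy
    rw [Set.mem_singleton_iff] at hw
    subst hw
    obtain ⟨c, rfl⟩ := isConj_iff.1 hwy
    obtain ⟨x, hx, m, hm, hc⟩ := exists_mul_of_index_pow hr hP hidx c⁻¹
    have h2 : c = m⁻¹ * x⁻¹ := by rw [← mul_inv_rev, ← hc, inv_inv]
    have h3 : c * w * c⁻¹ = m⁻¹ * w * m := by
      have h4 := hz x⁻¹ (inv_mem hx)
      rw [h2]
      calc m⁻¹ * x⁻¹ * w * (m⁻¹ * x⁻¹)⁻¹ = m⁻¹ * (x⁻¹ * w) * x * m := by group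
        _ = m⁻¹ * (w * x⁻¹) * x * m := by rw [h4]
        _ = m⁻¹ * w * m := by group
    rw [h3]
    exact mul_mem (mul_mem (inv_mem hm) hzM) hm
  rcases (Subgroup.normalClosure_normal (s := {z})).eq_bot_or_eq_top with h2 | h2
  · apply hz1
    rw [← Subgroup.mem_bot, ← h2]
    exact Subgroup.subset_normalClosure rfl
  · exact hM (top_le_iff.1 (h2 ▸ h1))

/-- a central element of order `r` of a Sylow `r`-subgroup -/
theorem exists_central {T : Type*} [Group T] [Finite T] {r : ℕ} [hr : Fact r.Prime] (h : r ∣ Nat.card T) :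
    ∃ (P : Subgroup T) (z : T), IsPGroup r P ∧ ¬ r ∣ P.index ∧ orderOf z = r ∧ z ∈ P ∧ ∀ x ∈ P, x * z = z * x := by
  obtain ⟨P⟩ : Nonempty (Sylow r T) := inferInstance
  have h1 : Nontrivial ↥(P : Subgroup T) := (Subgroup.nontrivial_iff_ne_bot _).2 (P.ne_bot_of_dvd_card h)
  have h2 := P.isPGroup'.center_nontrivial
  have h3 : r ∣ Nat.card (Subgroup.center ↥(P : Subgroup T)) := by
    obtain ⟨n, hn⟩ := IsPGroup.iff_card.1 (P.isPGroup'.to_subgroup (Subgroup.center ↥(P : Subgroup T)))
    rcases Nat.eq_zero_or_pos n with rfl | hn0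
    · rw [pow_zero] at hn
      exact absurd (Finite.one_lt_card_iff_nontrivial.2 h2) (by rw [hn]; exact lt_irrefl 1)
    · rw [hn]; exact dvd_pow_self r hn0.ne'
  obtain ⟨z, hz⟩ := exists_prime_orderOf_dvd_card' (G := Subgroup.center ↥(P : Subgroup T)) r h3
  refine ⟨P, ((z : ↥(P : Subgroup T)) : T), P.isPGroup', P.not_dvd_index, ?_, (z : ↥(P : Subgroup T)).2, ?_⟩
  · rw [Subgroup.orderOf_coe, Subgroup.orderOf_coe]; exact hz
  · intro x hx
    exact congrArg Subtype.val (Subgroup.mem_center_iff.1 z.2 ⟨x, hx⟩)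

/-- **proper subgroups of prime power index** -/
theorem der_of_index_pow {T : Type*} [Group T] [Finite T] [IsSimpleGroup T] {M : Subgroup T} (hM : M ≠ ⊤)
    {r k : ℕ} (hr : r.Prime) (hidx : M.index = r ^ k) : Der T M := by
  have := Fact.mk hr
  have hk : k ≠ 0 := by
    rintro rfl
    rw [pow_zero, Subgroup.index_eq_one] at hidx
    exact hM hidx
  have hrT : r ∣ Nat.card T := (dvd_pow_self r hk).trans (hidx ▸ M.index_dvd_card)
  obtain ⟨P, z, -, hP, hz, -, hc⟩ := exists_central hrT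
  refine ⟨z, by rw [hz]; exact hr, fun φ hφ => ?_⟩
  have h1 : (M.comap φ.toMonoidHom).index = r ^ k := by
    rw [Subgroup.index_comap_of_surjective M φ.surjective, hidx]
  have h2 : M.comap φ.toMonoidHom ≠ ⊤ := by
    intro ht
    rw [ht, Subgroup.index_top] at h1
    exact hr.one_lt.ne' (Nat.eq_one_of_dvd_one (h1 ▸ dvd_pow_self r hk))
  have hz1 : z ≠ 1 := by
    rintro rfl
    rw [orderOf_one] at hz
    exact hr.one_lt.ne hz
  exact not_mem_of_index_pow h2 hr hP h1 hc hz1 hφ

/-- a uniform element of prime order outside of the `p`-local subgroups -/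
theorem np_of_z {p : ℕ} {T : Type*} [Group T] [Finite T] {z : T} (hz : (orderOf z).Prime)
    (h : ∀ V : Subgroup T, IsPGroup p V → V ≠ ⊥ → (∀ v : ℕ, v.Prime → v ∣ Nat.card T →
      v ∣ Nat.card ↥(Subgroup.normalizer (V : Set T))) → z ∉ Subgroup.normalizer (V : Set T)) : NP p T := by
  intro V hV hV1
  by_cases hall : ∀ v : ℕ, v.Prime → v ∣ Nat.card T → v ∣ Nat.card ↥(Subgroup.normalizer (V : Set T))
  swap
  · push Not at hall
    obtain ⟨v, hv, h1, h2⟩ := hall
    exact der_of_prime hv h1 h2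
  refine ⟨z, hz, fun φ hφ => ?_⟩
  have h1 : z ∈ Subgroup.normalizer ((V.comap φ.toMonoidHom : Subgroup T) : Set T) := by
    rw [← comap_normalizer]
    exact hφ
  refine h _ (hV.comap_of_injective _ φ.injective) (fun hb => hV1 ?_) ?_ h1
  · rw [eq_bot_iff]
    intro x hx
    have h1 : φ.symm x ∈ V.comap φ.toMonoidHom := by
      show φ (φ.symm x) ∈ V
      rwa [φ.apply_symm_apply]
    rw [hb, Subgroup.mem_bot] at h1
    rw [Subgroup.mem_bot, ← φ.apply_symm_apply x, h1, map_one]
  · intro v hv hvT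
    rw [← comap_normalizer]
    have h2 : Nat.card ↥((Subgroup.normalizer (V : Set T)).comap φ.toMonoidHom) =
        Nat.card ↥(Subgroup.normalizer (V : Set T)) :=
      Nat.card_congr (Equiv.subtypeEquiv φ.toEquiv fun x => Iff.rfl)
    rw [h2]
    exact hall v hv hvT

/-- the same for subgroups of index prime to `p` -/
theorem der_of_z_loc {p : ℕ} {T : Type*} [Group T] [Finite T] {z : T} (hz : (orderOf z).Prime)
    {S : Set T} (hzS : z ∈ S) (hS : ∀ (φ : T ≃* T), ∀ x ∈ S, φ x ∈ S)
    (h : ∀ M : Subgroup T, Loc p M → (∀ v : ℕ, v.Prime → v ∣ Nat.card T → v ∣ Nat.card M) →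
      ∀ x ∈ S, x ∉ M) {M : Subgroup T} (hM : Loc p M) : Der T M := by
  by_cases hall : ∀ v : ℕ, v.Prime → v ∣ Nat.card T → v ∣ Nat.card M
  swap
  · push Not at hall
    obtain ⟨v, hv, h1, h2⟩ := hall
    exact der_of_prime hv h1 h2
  exact ⟨z, hz, fun φ hφ => h M hM hall _ (hS φ z hzS) hφ⟩

end Cfsg.Agent.H983.ElPar
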